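import Groth.Agent.Lib.Partition6.Tower
import Groth.Agent.Lib.UnrMono.Basic

/-!
# A finite etale then radicial cover of a piece through a point, with a section
-/

set_option linter.style.haveILetI false
set_option maxSynthPendingDepth 3

universe u

open Polynomial TensorProduct AlgebraicGeometry CategoryTheory

namespace GrothLib.Partition6

/-- The coordinate ring of the piece `D(a) ∩ V(I)`. -/
abbrev PieceRing {R : Type u} [CommRing R] (a : R) (I : Ideal R) : Type u :=
  Localization.Away (Ideal.Quotient.mk I a)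

theorem universallyInjective_of_radicial {A A' : Type u} [CommRing A] [CommRing A'] [Algebra A A']
    (h : ∀ (Ω : Type u) [Field Ω] (σ τ : A' →+* Ω),
      σ.comp (algebraMap A A') = τ.comp (algebraMap A A') → σ = τ) :
    UniversallyInjective (Spec.map (CommRingCat.ofHom (algebraMap A A'))) := by
  refine ((tfae_universallyInjective _).out 1 0).1 fun K instK g₁ g₂ e => ?_
  obtain ⟨χ₁, rfl⟩ := Spec.map_surjective g₁
  obtain ⟨χ₂, rfl⟩ := Spec.map_surjective g₂
  simp only [← Spec.map_comp] at e
  exact congrArg Spec.map (CommRingCat.hom_ext (@h K instK χ₁.hom χ₂.hom (congrArg CommRingCat.Hom.hom (Spec.map_injective e))))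

set_option maxHeartbeats 2000000 in
/-- The point of `Spec R` under a point of `Spec B` has a piece carrying a finite etale cover followed by a
finite flat radicial one, with a section to `B`. -/
theorem exists_piece {R B : Type u} [CommRing R] [CommRing B] [Algebra R B] [Algebra.FinitePresentation R B]
    (p : PrimeSpectrum R) (hp : ∃ P : PrimeSpectrum B, PrimeSpectrum.comap (algebraMap R B) P = p) :
    ∃ (a : R) (I : Ideal R), I.FG ∧ a ∉ p.asIdeal ∧ I ≤ p.asIdeal ∧
      ∃ (R₂ R₃ : Type u) (_ : CommRing R₂) (_ : CommRing R₃) (_ : Algebra (PieceRing a I) R₂)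
        (_ : Algebra R₂ R₃) (ψ : B →+* R₃),
        Module.Finite (PieceRing a I) R₂ ∧ Algebra.Etale (PieceRing a I) R₂ ∧
        Function.Surjective (PrimeSpectrum.comap (algebraMap (PieceRing a I) R₂)) ∧
        Module.Finite R₂ R₃ ∧ Algebra.FinitePresentation R₂ R₃ ∧ Module.Flat R₂ R₃ ∧
        Function.Surjective (PrimeSpectrum.comap (algebraMap R₂ R₃)) ∧
        UniversallyInjective (Spec.map (CommRingCat.ofHom (algebraMap R₂ R₃))) ∧
        ψ.comp (algebraMap R B) =
          (algebraMap R₂ R₃).comp ((algebraMap (PieceRing a I) R₂).comp (algebraMap R (PieceRing a I))) := by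
  classical
  let F := p.asIdeal.ResidueField
  have hker : ∀ r : R, algebraMap R F r = 0 ↔ r ∈ p.asIdeal := fun r => Ideal.algebraMap_residueField_eq_zero
  have hF : IsQuot R F := fun x => by
    obtain ⟨a, b, hb, rfl⟩ := IsFractionRing.div_surjective (A := R ⧸ p.asIdeal) x
    obtain ⟨a, rfl⟩ := Ideal.Quotient.mk_surjective a
    obtain ⟨b, rfl⟩ := Ideal.Quotient.mk_surjective b
    have hb0 : algebraMap R F b ≠ 0 := fun h => nonZeroDivisors.ne_zero hb (Ideal.Quotient.eq_zero_iff_mem.2 ((hker b).1 h))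
    exact ⟨a, b, hb0, div_mul_cancel₀ _ hb0⟩
  obtain ⟨P, hP⟩ := hp
  -- a closed point of the fibre
  obtain ⟨K, _, _, _, _, _, ⟨ψ₀⟩⟩ : ∃ (K : Type u) (_ : Field K) (_ : Algebra F K) (_ : Algebra R K)
      (_ : IsScalarTower R F K) (_ : FiniteDimensional F K), Nonempty (B →ₐ[R] K) := by
    haveI : Nontrivial (F ⊗[R] B) := by
      let w : F ⊗[R] B →ₐ[R] P.asIdeal.ResidueField := Algebra.TensorProduct.lift
        (Ideal.ResidueField.mapₐ p.asIdeal P.asIdeal (Algebra.ofId R B) (by rw [← hP]; rfl))
        (IsScalarTower.toAlgHom R B P.asIdeal.ResidueField)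
        (fun _ _ => Commute.all _ _)
      exact w.toRingHom.domain_nontrivial
    obtain ⟨mx, hmx⟩ := Ideal.exists_maximal (F ⊗[R] B)
    let K := (F ⊗[R] B) ⧸ mx
    letI : Field K := Ideal.Quotient.field mx
    haveI : Module.Finite F K := finite_of_finite_type_of_isJacobsonRing F K
    exact ⟨K, inferInstance, inferInstance, inferInstance, inferInstance, inferInstance,
      ⟨(Ideal.Quotient.mkₐ R mx).comp Algebra.TensorProduct.includeRight⟩⟩
  -- the separable part
  obtain ⟨θ, hθ⟩ := Field.exists_primitive_element F (separableClosure F K)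
  let θK : K := θ
  have hθsep : IsSeparable F θK := mem_separableClosure_iff.1 θ.2
  obtain ⟨c₀, hc₀, hc₀q⟩ := hF.common (minpoly F θK).coeffs
  let θ' : K := algebraMap F K (algebraMap R F c₀) * θK
  have hθK : IsIntegral F θK := Algebra.IsIntegral.isIntegral θK
  let g₀ : F[X] := (minpoly F θK).scaleRoots (algebraMap R F c₀)
  have hg₀m : g₀.Monic := (monic_scaleRoots_iff _).2 (minpoly.monic hθK)
  have hg₀l : g₀ ∈ Polynomial.lifts (algebraMap R F) := by
    rw [lifts_iff_coeff_lifts]
    intro n
    rw [coeff_scaleRoots]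
    rcases lt_trichotomy n (minpoly F θK).natDegree with hn | hn | hn
    · obtain ⟨j, hj⟩ : ∃ j, (minpoly F θK).natDegree - n = j + 1 := ⟨_, (Nat.sub_add_cancel (by omega)).symm⟩
      rw [hj, pow_succ, mul_comm _ (algebraMap R F c₀), ← mul_assoc, ← map_pow]
      by_cases h0 : (minpoly F θK).coeff n = 0
      · exact ⟨0, by simp [h0]⟩
      · obtain ⟨r, hr⟩ := hc₀q _ (coeff_mem_coeffs h0)
        exact ⟨r * c₀ ^ j, by rw [map_mul, hr]⟩
    · exact ⟨1, by rw [hn, Nat.sub_self, pow_zero, mul_one, map_one]; exact (minpoly.monic hθK).coeff_natDegree.symm⟩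
    · exact ⟨0, by rw [coeff_eq_zero_of_natDegree_lt hn, zero_mul, map_zero]⟩
  obtain ⟨g, hgmap, hgdeg, hgm⟩ := lifts_and_natDegree_eq_and_monic hg₀l hg₀m
  have hg₀θ : aeval θ' g₀ = 0 := scaleRoots_aeval_eq_zero (minpoly.aeval F θK)
  have hθ'sep : IsSeparable F θ' := by
    refine mem_separableClosure_iff.1 ((separableClosure F K).mul_mem ?_ (mem_separableClosure_iff.2 hθsep))
    exact (separableClosure F K).algebraMap_mem _
  have hck : algebraMap F K (algebraMap R F c₀) ≠ 0 := (_root_.map_ne_zero _).2 hc₀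
  have hadj : IntermediateField.adjoin F {θ'} = IntermediateField.adjoin F {θK} := by
    refine le_antisymm (IntermediateField.adjoin_simple_le_iff.2 ?_) (IntermediateField.adjoin_simple_le_iff.2 ?_)
    · exact (IntermediateField.adjoin F {θK}).mul_mem ((IntermediateField.adjoin F {θK}).algebraMap_mem _)
        (IntermediateField.mem_adjoin_simple_self F θK)
    · have := (IntermediateField.adjoin F {θ'}).mul_mem
        ((IntermediateField.adjoin F {θ'}).inv_mem ((IntermediateField.adjoin F {θ'}).algebraMap_mem (algebraMap R F c₀)))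
        (IntermediateField.mem_adjoin_simple_self F θ')
      rwa [inv_mul_cancel_left₀ hck] at this
  have hθ'i : IsIntegral F θ' := Algebra.IsIntegral.isIntegral θ'
  have hdeg' : g₀.natDegree = (minpoly F θ').natDegree := by
    rw [natDegree_scaleRoots, ← IntermediateField.adjoin.finrank hθK, ← IntermediateField.adjoin.finrank hθ'i, hadj]
  have hg₀min : g₀ = minpoly F θ' := (minpoly.unique F θ' hg₀m hg₀θ fun f hf hfr => by
    rw [degree_eq_natDegree hg₀m.ne_zero, degree_eq_natDegree hf.ne_zero, hdeg']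
    exact_mod_cast natDegree_le_natDegree (minpoly.min F θ' hf hfr))
  have hg₀sep : g₀.Separable := hg₀min ▸ hθ'sep
  obtain ⟨u₀, v₀, huv⟩ := hg₀sep
  obtain ⟨bu, U, hbu, hU⟩ := hF.exists_lift_poly u₀
  obtain ⟨bv, V, hbv, hV⟩ := hF.exists_lift_poly v₀
  let W : R[X] := C bv * U * g + C bu * V * derivative g - C (bu * bv)
  have hW : W.map (algebraMap R F) = 0 := by
    simp only [W, Polynomial.map_sub, Polynomial.map_add, Polynomial.map_mul, map_C, hU, hV, hgmap,
      ← derivative_map, map_mul]
    linear_combination (C (algebraMap R F bu) * C (algebraMap R F bv)) * huv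
  -- the free models
  let M₀ := AdjoinRoot g
  have hgθ : aeval θ' g = 0 := by rw [← aeval_map_algebraMap F θ' g, hgmap, hg₀θ]
  let φ₀ : M₀ →ₐ[R] K := AdjoinRoot.liftAlgHom g (Algebra.ofId R K) θ' hgθ
  have hφ₀root : φ₀ (AdjoinRoot.root g) = θ' := by
    exact AdjoinRoot.liftAlgHom_root g (Algebra.ofId R K) θ' hgθ
  have hdimd : (AdjoinRoot.powerBasis' hgm).dim = (minpoly F θ').natDegree := by
    rw [AdjoinRoot.powerBasis'_dim, hgdeg, hdeg']
  let eι : Fin (AdjoinRoot.powerBasis' hgm).dim ≃ ULift.{u} (Fin (minpoly F θ').natDegree) :=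
    (finCongr hdimd).trans Equiv.ulift.symm
  let b₀ := (AdjoinRoot.powerBasis' hgm).basis.reindex eι
  have hli₀ : LinearIndependent F (φ₀ ∘ b₀) := by
    convert (linearIndependent_pow (K := F) θ').comp ULift.down.{u} Equiv.ulift.injective using 1
    funext j
    simp only [Function.comp_apply, b₀, Module.Basis.reindex_apply, PowerBasis.coe_basis,
      AdjoinRoot.powerBasis'_gen, map_pow, hφ₀root]
    rfl
  have hsep₀ : separableClosure F K ≤ IntermediateField.adjoin F (Set.range φ₀) := by
    have h1 : (IntermediateField.adjoin F {θK}) = separableClosure F K := by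
      have := congrArg (IntermediateField.map (separableClosure F K).val) hθ
      rwa [IntermediateField.adjoin_map, Set.image_singleton, ← AlgHom.fieldRange_eq_map,
        IntermediateField.fieldRange_val] at this
    rw [← h1, ← hadj, IntermediateField.adjoin_simple_le_iff]
    exact IntermediateField.subset_adjoin F _ ⟨_, hφ₀root⟩
  obtain ⟨M, _, _, _, _, ι, _, b, φ, hli, htop, hfree, hfin, hrad⟩ :=
    exists_tower hF (ringExpChar F) b₀ φ₀ hli₀ hsep₀
  have hspan : ∀ z : K, z ∈ Submodule.span F (Set.range (φ ∘ b)) := fun z => by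
    rw [← adjoin_eq_span F b φ, htop]; trivial
  have hcoef : ∀ μ : M, φ μ = 0 → ∀ i, b.repr μ i ∈ p.asIdeal := fun μ hμ i => by
    rw [← hker]
    refine Fintype.linearIndependent_iff.1 hli (fun i => algebraMap R F (b.repr μ i)) ?_ i
    rw [← hμ]
    conv_rhs => rw [← b.sum_repr μ]
    rw [map_sum]
    refine Finset.sum_congr rfl fun j _ => ?_
    rw [map_smul, algebraMap_smul]
    rfl
  -- the section
  obtain ⟨n, π, hπ, hπker⟩ := Algebra.FinitePresentation.out (R := R) (A := B)
  obtain ⟨S, hS⟩ := hπker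
  choose fc hfc using fun j : Fin n => (Submodule.mem_span_range_iff_exists_fun F).1 (hspan (ψ₀ (π (MvPolynomial.X j))))
  obtain ⟨c, hc, hcf⟩ := hF.common (Finset.univ.image fun x : Fin n × ι => fc x.1 x.2)
  choose rc hrc using fun (j : Fin n) (i : ι) => hcf (fc j i) (Finset.mem_image_of_mem _ (Finset.mem_univ (j, i)))
  let a : R := bu * bv * c
  have hab : algebraMap R F a ≠ 0 := by
    simp only [a, map_mul]
    exact mul_ne_zero (mul_ne_zero hbu hbv) hc
  have haK : IsUnit (algebraMap R K a) := by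
    rw [IsScalarTower.algebraMap_apply R F K]
    exact ((_root_.map_ne_zero _).2 hab).isUnit
  let Mc := Localization.Away (algebraMap R M a)
  have hφa : IsUnit (φ.toRingHom (algebraMap R M a)) := by
    show IsUnit (φ (algebraMap R M a))
    rwa [φ.commutes]
  let φc : Mc →+* K := IsLocalization.Away.lift (algebraMap R M a) hφa
  have hφc : ∀ μ, φc (algebraMap M Mc μ) = φ μ := fun μ => IsLocalization.Away.lift_eq _ hφa μ
  let wj : Fin n → Mc := fun j => IsLocalization.mk' Mc ((bu * bv) • ∑ i, rc j i • b i)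
    (⟨algebraMap R M a, Submonoid.mem_powers _⟩ : Submonoid.powers (algebraMap R M a))
  have hwj : ∀ j, φc (wj j) = ψ₀ (π (MvPolynomial.X j)) := fun j => by
    refine haK.mul_left_cancel ?_
    have h1 : algebraMap M Mc (algebraMap R M a) * wj j = algebraMap M Mc ((bu * bv) • ∑ i, rc j i • b i) := by
      rw [mul_comm]; exact IsLocalization.mk'_spec _ _ _
    have h2 := congrArg φc h1
    rw [map_mul, hφc, hφc, φ.commutes] at h2
    rw [h2, map_smul, map_sum, ← hfc j, Finset.mul_sum, Finset.smul_sum]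
    refine Finset.sum_congr rfl fun i _ => ?_
    rw [map_smul, Algebra.smul_def, Algebra.smul_def, Algebra.smul_def, IsScalarTower.algebraMap_apply R F K (rc j i),
      hrc]
    simp only [a, map_mul, Function.comp_apply, ← IsScalarTower.algebraMap_apply R F K]
    ring
  have hs : ∀ s ∈ S, ∃ (N : ℕ) (μ : M),
      MvPolynomial.aeval wj s * algebraMap M Mc (algebraMap R M a ^ N) = algebraMap M Mc μ ∧
        ∀ i, b.repr μ i ∈ p.asIdeal := fun s hsS => by
    obtain ⟨N, μ, hμ⟩ := IsLocalization.Away.surj (algebraMap R M a) (MvPolynomial.aeval wj s)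
    refine ⟨N, μ, by rw [map_pow]; exact hμ, hcoef μ ?_⟩
    have hz : φc (MvPolynomial.aeval wj s) = 0 := by
      let φcA : Mc →ₐ[R] K :=
        { φc with
          commutes' := fun r => by
            show φc (algebraMap R Mc r) = _
            rw [IsScalarTower.algebraMap_apply R M Mc, hφc, φ.commutes] }
      have h2 : φcA.comp (MvPolynomial.aeval wj) = ψ₀.comp π := MvPolynomial.algHom_ext fun j => by
        simp only [AlgHom.comp_apply, MvPolynomial.aeval_X]
        exact hwj j
      have h3 := DFunLike.congr_fun h2 s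
      have hk : π s = 0 := by
        have : s ∈ RingHom.ker π.toRingHom := hS ▸ Submodule.subset_span hsS
        exact this
      simp only [AlgHom.comp_apply, hk, map_zero] at h3
      exact h3
    rw [← hφc, ← hμ, map_mul, hz, zero_mul]
  choose Nf μf hμf hμp using hs
  let q : R := ((ringChar F : ℕ) : R)
  let G : Finset R := insert q (W.coeffs ∪ S.attach.biUnion fun s => Finset.univ.image fun i => b.repr (μf s.1 s.2) i)
  let I : Ideal R := Ideal.span (G : Set R)
  have hIp : I ≤ p.asIdeal := Ideal.span_le.2 fun r hr => by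
    rcases Finset.mem_insert.1 hr with rfl | hr
    · exact (hker _).1 (by rw [map_natCast, ringChar.Nat.cast_ringChar])
    rcases Finset.mem_union.1 hr with hr | hr
    · obtain ⟨k, -, rfl⟩ := mem_coeffs_iff.1 hr
      exact (hker _).1 (by rw [← coeff_map, hW, coeff_zero])
    · obtain ⟨s, -, hs⟩ := Finset.mem_biUnion.1 hr
      obtain ⟨i, -, rfl⟩ := Finset.mem_image.1 hs
      exact hμp s.1 s.2 i
  refine ⟨a, I, ⟨G, rfl⟩, fun h => hab ((hker a).2 h), hIp, ?_⟩
  let R₁ := PieceRing a I
  have hI : ∀ r ∈ I, algebraMap R R₁ r = 0 := fun r hr => by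
    rw [IsScalarTower.algebraMap_apply R (R ⧸ I) R₁, Ideal.Quotient.algebraMap_eq, Ideal.Quotient.eq_zero_iff_mem.2 hr,
      map_zero]
  have ha₁ : IsUnit (algebraMap R R₁ a) := by
    rw [IsScalarTower.algebraMap_apply R (R ⧸ I) R₁, Ideal.Quotient.algebraMap_eq]
    exact IsLocalization.Away.algebraMap_isUnit _
  let g₁ : R₁[X] := g.map (algebraMap R R₁)
  have hg₁ : g₁.Monic := hgm.map _
  have hg₁sep : g₁.Separable := by
    have hW0 : W.map (algebraMap R R₁) = 0 := Polynomial.ext fun k => by
      rw [coeff_map, coeff_zero]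
      by_cases hk : W.coeff k = 0
      · rw [hk, map_zero]
      · exact hI _ (Ideal.subset_span (Finset.mem_insert_of_mem (Finset.mem_union_left _ (coeff_mem_coeffs hk))))
    obtain ⟨e, he⟩ : IsUnit (algebraMap R R₁ (bu * bv)) := by
      simp only [a, map_mul] at ha₁ ⊢
      exact isUnit_of_mul_isUnit_left ha₁
    have he' := congrArg C he.symm
    refine ⟨C (↑(e⁻¹) : R₁) * (C bv * U).map (algebraMap R R₁), C (↑(e⁻¹) : R₁) * (C bu * V).map (algebraMap R R₁), ?_⟩
    simp only [W, Polynomial.map_sub, Polynomial.map_add, Polynomial.map_mul, map_C, ← derivative_map, he'] at hW0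
    have h1 : (C (↑e⁻¹ : R₁)) * C (↑e : R₁) = 1 := by rw [← C_mul, Units.inv_mul, C_1]
    simp only [g₁, Polynomial.map_mul, map_C]
    linear_combination (C (↑e⁻¹ : R₁)) * hW0 + h1
  let R₂ := AdjoinRoot g₁
  haveI : Module.Free R₁ R₂ := Module.Free.of_basis (AdjoinRoot.powerBasis' hg₁).basis
  haveI : Module.Finite R₁ R₂ := Module.Finite.of_basis (AdjoinRoot.powerBasis' hg₁).basis
  haveI : Algebra.FormallyEtale R₁ R₂ := GrothLib.UnrMono.formallyEtale_adjoinRoot hg₁ hg₁sep
  haveI : Module.FinitePresentation R₁ R₂ := Module.finitePresentation_of_projective R₁ R₂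
  haveI : Algebra.Etale R₁ R₂ :=
    ⟨inferInstance, Algebra.FinitePresentation.of_finitePresentation R₁ R₂⟩
  have hroot₂ : aeval (AdjoinRoot.root g₁) g = 0 := by
    rw [← aeval_map_algebraMap R₁ (AdjoinRoot.root g₁) g]
    rw [AdjoinRoot.aeval_eq]; exact AdjoinRoot.mk_self
  let ρ : M₀ →ₐ[R] R₂ := AdjoinRoot.liftAlgHom g (Algebra.ofId R R₂) (AdjoinRoot.root g₁) hroot₂
  letI : Algebra M₀ R₂ := ρ.toRingHom.toAlgebra
  haveI : IsScalarTower R M₀ R₂ := IsScalarTower.of_algHom ρ
  haveI := hfree
  haveI := hfin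
  haveI : Nontrivial M := φ.toRingHom.domain_nontrivial
  let R₃ := R₂ ⊗[M₀] M
  haveI : Module.FaithfullyFlat M₀ M := inferInstance
  haveI : Module.FaithfullyFlat R₂ R₃ := inferInstance
  haveI : Module.Finite R₂ R₃ := inferInstance
  haveI : Module.FinitePresentation R₂ R₃ := Module.finitePresentation_of_projective R₂ R₃
  let ιM : M →+* R₃ := (Algebra.TensorProduct.includeRight : M →ₐ[M₀] R₃).toRingHom
  have hιR : ∀ r : R, ιM (algebraMap R M r) = algebraMap R₂ R₃ (algebraMap R₁ R₂ (algebraMap R R₁ r)) := fun r => by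
    rw [IsScalarTower.algebraMap_apply R M₀ M]
    show (1 : R₂) ⊗ₜ[M₀] algebraMap M₀ M (algebraMap R M₀ r) = algebraMap R₁ R₂ (algebraMap R R₁ r) ⊗ₜ[M₀] (1 : M)
    rw [← Algebra.TensorProduct.algebraMap_apply', Algebra.TensorProduct.algebraMap_apply,
      ← IsScalarTower.algebraMap_apply, ← IsScalarTower.algebraMap_apply]
  have hιa : IsUnit (ιM (algebraMap R M a)) := by
    rw [hιR]
    exact (ha₁.map _).map _
  let ιc : Mc →+* R₃ := IsLocalization.Away.lift (algebraMap R M a) hιa
  have hιc : ∀ μ, ιc (algebraMap M Mc μ) = ιM μ := fun μ => IsLocalization.Away.lift_eq _ hιa μ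
  have hann : ∀ μ : M, (∀ i, b.repr μ i ∈ I) → ιM μ = 0 := fun μ hμ => by
    rw [← b.sum_repr μ, map_sum]
    refine Finset.sum_eq_zero fun i _ => ?_
    rw [Algebra.smul_def, map_mul, hιR, hI _ (hμ i), map_zero, map_zero, zero_mul]
  let ev : MvPolynomial (Fin n) R →+* R₃ := ιc.comp (MvPolynomial.aeval wj).toRingHom
  have hev : RingHom.ker π.toRingHom ≤ RingHom.ker ev := by
    rw [← hS, Submodule.span_le]
    intro s hs
    have h1 : ιc (MvPolynomial.aeval wj s) * ιM (algebraMap R M a ^ Nf s hs) = 0 := by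
      rw [← hιc, ← map_mul, hμf s hs, hιc]
      exact hann _ fun i => Ideal.subset_span (Finset.mem_insert_of_mem (Finset.mem_union_right _
        (Finset.mem_biUnion.2 ⟨⟨s, hs⟩, Finset.mem_attach _ _, Finset.mem_image_of_mem _ (Finset.mem_univ i)⟩)))
    exact (IsUnit.mul_left_eq_zero (by rw [map_pow]; exact hιa.pow _)).1 h1
  let ψ : B →+* R₃ := π.toRingHom.liftOfSurjective hπ ⟨ev, hev⟩
  refine ⟨R₂, R₃, inferInstance, inferInstance, inferInstance, inferInstance, ψ, inferInstance, inferInstance, ?_,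
    inferInstance, inferInstance, inferInstance, PrimeSpectrum.comap_surjective_of_faithfullyFlat, ?_, ?_⟩
  · haveI : Nontrivial R₁ ∨ Subsingleton R₁ := (subsingleton_or_nontrivial R₁).symm
    rcases subsingleton_or_nontrivial R₁ with h | h
    · exact fun x => isEmptyElim x
    · haveI : Nonempty (Fin (AdjoinRoot.powerBasis' hg₁).dim) := by
        refine ⟨⟨0, ?_⟩⟩
        rw [AdjoinRoot.powerBasis'_dim, hgm.natDegree_map, hgdeg, hdeg']
        exact minpoly.natDegree_pos hθ'i
      haveI : Nontrivial R₂ := (AdjoinRoot.powerBasis' hg₁).basis.repr.toEquiv.nontrivial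
      exact PrimeSpectrum.comap_surjective_of_faithfullyFlat
  · refine universallyInjective_of_radicial fun Ω _ σ τ h => ?_
    have hq : ((ringChar F : ℕ) : Ω) = 0 := by
      have h1 : algebraMap R R₁ q = 0 := hI _ (Ideal.subset_span (Finset.mem_insert_self _ _))
      have h2 := congrArg (fun z => σ (algebraMap R₂ R₃ (algebraMap R₁ R₂ z))) h1
      simp only [q, map_natCast, map_zero] at h2
      exact h2
    have hM : σ.comp ιM = τ.comp ιM := hrad Ω hq _ _ (RingHom.ext fun z => by
      show σ (ιM (algebraMap M₀ M z)) = τ (ιM (algebraMap M₀ M z))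
      have : ιM (algebraMap M₀ M z) = algebraMap R₂ R₃ (algebraMap M₀ R₂ z) := by
        show (1 : R₂) ⊗ₜ[M₀] algebraMap M₀ M z = algebraMap M₀ R₂ z ⊗ₜ[M₀] (1 : M)
        rw [← Algebra.TensorProduct.algebraMap_apply', Algebra.TensorProduct.algebraMap_apply]
      rw [this]
      exact RingHom.congr_fun h _)
    refine RingHom.ext fun z => ?_
    induction z using TensorProduct.induction_on with
    | zero => simp
    | add z w hz hw => simp [hz, hw]
    | tmul r μ =>
      have : r ⊗ₜ[M₀] μ = algebraMap R₂ R₃ r * ιM μ := by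
        show r ⊗ₜ[M₀] μ = (r ⊗ₜ[M₀] (1 : M)) * ((1 : R₂) ⊗ₜ[M₀] μ)
        simp [Algebra.TensorProduct.tmul_mul_tmul]
      rw [this]
      exact (map_mul σ _ _).trans ((congrArg₂ (· * ·) (RingHom.congr_fun h r) (RingHom.congr_fun hM μ)).trans
        (map_mul τ _ _).symm)
  · refine RingHom.ext fun r => ?_
    have h1 : algebraMap R B r = π.toRingHom (algebraMap R (MvPolynomial (Fin n) R) r) := (π.commutes r).symm
    rw [RingHom.comp_apply, h1]
    show π.toRingHom.liftOfSurjective hπ ⟨ev, hev⟩ _ = _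
    rw [RingHom.liftOfSurjective_comp_apply]
    show ιc (MvPolynomial.aeval wj (algebraMap R _ r)) = _
    rw [AlgHom.commutes, IsScalarTower.algebraMap_apply R M Mc, hιc, hιR]
    rfl

end GrothLib.Partition6
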