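import Mathlib.RingTheory.Spectrum.Prime.ConstructibleSet
import Mathlib.RingTheory.Spectrum.Prime.Topology

/-!
# A constructible subset of an affine scheme is a finite disjoint union of basic pieces
-/

universe u

namespace GrothLib.Partition6

open PrimeSpectrum

variable {R : Type u} [CommRing R]

/-- A finite disjoint union of basic pieces `D(f) ∩ V(g)`. -/
def IsDisjUnion (s : Set (PrimeSpectrum R)) : Prop :=
  ∃ (n : ℕ) (C : Fin n → BasicConstructibleSetData R),
    Pairwise (fun i j => Disjoint (C i).toSet (C j).toSet) ∧ (⋃ i, (C i).toSet) = s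

theorem IsDisjUnion.of_fintype {ι : Type*} [Finite ι] (C : ι → BasicConstructibleSetData R)
    (h : Pairwise (fun i j => Disjoint (C i).toSet (C j).toSet)) : IsDisjUnion (⋃ i, (C i).toSet) := by
  obtain ⟨n, ⟨e⟩⟩ := Finite.exists_equiv_fin ι
  exact ⟨n, fun i => C (e.symm i), fun i j hij => h (e.symm.injective.ne hij),
    e.symm.surjective.iUnion_comp fun i => (C i).toSet⟩

theorem IsDisjUnion.basic (C : BasicConstructibleSetData R) : IsDisjUnion C.toSet := by
  have := IsDisjUnion.of_fintype (ι := Unit) (fun _ => C) (fun i j h => (h (Subsingleton.elim i j)).elim)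
  rwa [Set.iUnion_const] at this

theorem IsDisjUnion.empty : IsDisjUnion (∅ : Set (PrimeSpectrum R)) :=
  ⟨0, Fin.elim0, fun i => i.elim0, Set.iUnion_of_empty _⟩

theorem IsDisjUnion.union {s t : Set (PrimeSpectrum R)} (hs : IsDisjUnion s) (ht : IsDisjUnion t)
    (hd : Disjoint s t) : IsDisjUnion (s ∪ t) := by
  obtain ⟨m, C, hC, rfl⟩ := hs
  obtain ⟨n, D, hD, rfl⟩ := ht
  have h := IsDisjUnion.of_fintype (Sum.elim C D) (by
    rintro (i | i) (j | j) hij
    · exact hC fun e => hij (congrArg _ e)
    · exact hd.mono (Set.subset_iUnion (fun i => (C i).toSet) i) (Set.subset_iUnion (fun i => (D i).toSet) j)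
    · exact hd.symm.mono (Set.subset_iUnion (fun i => (D i).toSet) i) (Set.subset_iUnion (fun i => (C i).toSet) j)
    · exact hD fun e => hij (congrArg _ e))
  rwa [Set.iUnion_sum] at h

theorem range_append' {α : Type*} {m n : ℕ} (a : Fin m → α) (b : Fin n → α) :
    Set.range (Fin.append a b) = Set.range a ∪ Set.range b := by
  ext x
  constructor
  · rintro ⟨i, rfl⟩
    induction i using Fin.addCases with
    | left i => exact Or.inl ⟨i, (Fin.append_left _ _ _).symm⟩
    | right i => exact Or.inr ⟨i, (Fin.append_right _ _ _).symm⟩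
  · rintro (⟨i, rfl⟩ | ⟨i, rfl⟩)
    · exact ⟨_, Fin.append_left _ _ _⟩
    · exact ⟨_, Fin.append_right _ _ _⟩

theorem toSet_inter (C D : BasicConstructibleSetData R) :
    C.toSet ∩ D.toSet = (⟨C.f * D.f, C.n + D.n, Fin.append C.g D.g⟩ : BasicConstructibleSetData R).toSet := by
  simp only [BasicConstructibleSetData.toSet]
  have : Set.range (Fin.append C.g D.g) = Set.range C.g ∪ Set.range D.g := range_append' _ _
  rw [this, zeroLocus_union, zeroLocus_singleton_mul]
  ext x
  simp only [Set.mem_inter_iff, Set.mem_sdiff, Set.mem_union]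
  tauto

theorem IsDisjUnion.inter {s t : Set (PrimeSpectrum R)} (hs : IsDisjUnion s) (ht : IsDisjUnion t) :
    IsDisjUnion (s ∩ t) := by
  obtain ⟨m, C, hC, rfl⟩ := hs
  obtain ⟨n, D, hD, rfl⟩ := ht
  have h := IsDisjUnion.of_fintype (ι := Fin m × Fin n)
    (fun p => ⟨(C p.1).f * (D p.2).f, _, Fin.append (C p.1).g (D p.2).g⟩) (by
      intro p q hpq
      simp only [← toSet_inter]
      by_cases h1 : p.1 = q.1
      · exact (hD (fun h2 => hpq (Prod.ext h1 h2))).mono Set.inter_subset_right Set.inter_subset_right
      · exact (hC h1).mono Set.inter_subset_left Set.inter_subset_left)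
  convert h using 1
  simp only [← toSet_inter]
  ext x
  simp [Set.mem_iUnion]

theorem IsDisjUnion.basicOpen_inter_zeroLocus (f : R) {n : ℕ} (g : Fin n → R) :
    IsDisjUnion (zeroLocus (Set.range g) \ zeroLocus {f}) :=
  IsDisjUnion.basic ⟨f, n, g⟩

theorem IsDisjUnion.univ : IsDisjUnion (Set.univ : Set (PrimeSpectrum R)) := by
  have := IsDisjUnion.basicOpen_inter_zeroLocus (1 : R) (Fin.elim0)
  rwa [Set.range_eq_empty, zeroLocus_empty, zeroLocus_singleton_one, Set.sdiff_empty] at this

theorem isDisjUnion_zeroLocus_compl : ∀ {n : ℕ} (g : Fin n → R), IsDisjUnion (zeroLocus (Set.range g))ᶜ := by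
  intro n
  induction n with
  | zero => intro g; rw [Set.range_eq_empty, zeroLocus_empty, Set.compl_univ]; exact IsDisjUnion.empty
  | succ n ih =>
    intro g
    have h1 : IsDisjUnion ((zeroLocus {g 0})ᶜ : Set (PrimeSpectrum R)) := by
      have := IsDisjUnion.basicOpen_inter_zeroLocus (g 0) (Fin.elim0)
      rwa [Set.range_eq_empty, zeroLocus_empty, ← Set.compl_eq_univ_sdiff] at this
    have h2 : IsDisjUnion (zeroLocus {g 0} : Set (PrimeSpectrum R)) := by
      have := IsDisjUnion.basicOpen_inter_zeroLocus (1 : R) (fun _ : Fin 1 => g 0)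
      rwa [Set.range_const, zeroLocus_singleton_one, Set.sdiff_empty] at this
    have h3 := h1.union (h2.inter (ih (Fin.tail g))) (disjoint_compl_left.mono_right Set.inter_subset_left)
    convert h3 using 1
    have hr : Set.range g = insert (g 0) (Set.range (Fin.tail g)) := by
      conv_lhs => rw [← Fin.cons_self_tail g]
      exact Fin.range_cons _ _
    rw [hr, Set.insert_eq, zeroLocus_union]
    ext x
    simp only [Set.mem_compl_iff, Set.mem_inter_iff, Set.mem_union]
    tauto

theorem isDisjUnion_compl_basic (C : BasicConstructibleSetData R) : IsDisjUnion C.toSetᶜ := by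
  have h1 := isDisjUnion_zeroLocus_compl C.g
  have h2 : IsDisjUnion (zeroLocus (Set.range C.g) ∩ zeroLocus {C.f} : Set (PrimeSpectrum R)) := by
    have := IsDisjUnion.basicOpen_inter_zeroLocus (1 : R) (Fin.append C.g fun _ : Fin 1 => C.f)
    rwa [range_append', Set.range_const, zeroLocus_union, zeroLocus_singleton_one, Set.sdiff_empty] at this
  have h3 := h1.union h2 (disjoint_compl_left.mono_right Set.inter_subset_left)
  convert h3 using 1
  simp only [BasicConstructibleSetData.toSet]
  ext x
  simp only [Set.mem_compl_iff, Set.mem_sdiff, Set.mem_union, Set.mem_inter_iff]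
  tauto

theorem IsDisjUnion.compl {s : Set (PrimeSpectrum R)} (hs : IsDisjUnion s) : IsDisjUnion sᶜ := by
  obtain ⟨m, C, -, rfl⟩ := hs
  induction m with
  | zero => rw [Set.iUnion_of_empty, Set.compl_empty]; exact IsDisjUnion.univ
  | succ m ih =>
    have h := (isDisjUnion_compl_basic (C 0)).inter (ih fun i => C i.succ)
    convert h using 1
    rw [← Set.compl_union]
    congr 1
    ext x
    simp [Fin.exists_fin_succ]

/-- A constructible subset is a finite disjoint union of basic pieces. -/
theorem isDisjUnion_of_isConstructible {s : Set (PrimeSpectrum R)} (hs : Topology.IsConstructible s) :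
    IsDisjUnion s := by
  classical
  obtain ⟨S, rfl⟩ := exists_constructibleSetData_iff.mpr hs
  induction S using Finset.induction with
  | empty => simp only [ConstructibleSetData.toSet, Finset.notMem_empty, Set.iUnion_of_empty, Set.iUnion_empty]; exact IsDisjUnion.empty
  | insert C S hCS ih =>
    have hi := ih (ConstructibleSetData.isConstructible_toSet S)
    have h := (IsDisjUnion.basic C).union ((isDisjUnion_compl_basic C).inter hi)
      (disjoint_compl_right.mono_right Set.inter_subset_left)
    convert h using 1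
    simp only [ConstructibleSetData.toSet, Finset.set_biUnion_insert]
    rw [Set.union_inter_distrib_left, Set.union_compl_self, Set.univ_inter]

end GrothLib.Partition6
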