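import Mathlib

/-!
# A free model of a finite field extension by a separable step and radicial steps
-/

set_option linter.style.haveILetI false
set_option maxSynthPendingDepth 3

universe u

open Polynomial

namespace GrothLib.Partition6

variable {R F K : Type u} [CommRing R] [Field F] [Field K] [Algebra R F] [Algebra F K] [Algebra R K]
  [IsScalarTower R F K] [FiniteDimensional F K]

/-- Every element of `F` is a quotient of images of elements of `R`. -/
def IsQuot (R F : Type u) [CommRing R] [Field F] [Algebra R F] : Prop :=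
  ∀ x : F, ∃ a b : R, algebraMap R F b ≠ 0 ∧ x * algebraMap R F b = algebraMap R F a

theorem IsQuot.common (hF : IsQuot R F) (T : Finset F) :
    ∃ b : R, algebraMap R F b ≠ 0 ∧ ∀ x ∈ T, x * algebraMap R F b ∈ (algebraMap R F).range := by
  classical
  induction T using Finset.induction with
  | empty => exact ⟨1, by simp, by simp⟩
  | insert x T hx ih =>
    obtain ⟨b, hb, h⟩ := ih
    obtain ⟨a, c, hc, ha⟩ := hF x
    refine ⟨b * c, by rw [map_mul]; exact mul_ne_zero hb hc, fun y hy => ?_⟩
    rcases Finset.mem_insert.1 hy with rfl | hy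
    · exact ⟨a * b, by rw [map_mul, map_mul, ← ha]; ring⟩
    · obtain ⟨r, hr⟩ := h y hy
      exact ⟨r * c, by rw [map_mul, map_mul, hr]; ring⟩

/-- Denominators of a polynomial. -/
theorem IsQuot.exists_lift_poly (hF : IsQuot R F) (f : F[X]) :
    ∃ (b : R) (U : R[X]), algebraMap R F b ≠ 0 ∧ U.map (algebraMap R F) = C (algebraMap R F b) * f := by
  classical
  obtain ⟨b, hb, h⟩ := hF.common f.coeffs
  have : C (algebraMap R F b) * f ∈ Polynomial.lifts (algebraMap R F) := by
    rw [lifts_iff_coeff_lifts]
    intro n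
    rw [coeff_C_mul]
    by_cases hn : f.coeff n = 0
    · exact ⟨0, by simp [hn]⟩
    · obtain ⟨r, hr⟩ := h _ (coeff_mem_coeffs hn)
      exact ⟨r, hr.trans (mul_comm _ _)⟩
  obtain ⟨U, hU⟩ := (mem_lifts _).1 this
  exact ⟨b, U, hb, hU⟩

variable (F) in
/-- The subfield generated by the image of a free model is the span of the image of a basis. -/
theorem adjoin_eq_span {M ι : Type u} [CommRing M] [Algebra R M] [Fintype ι] (b : Module.Basis ι R M)
    (φ : M →ₐ[R] K) (x : K) :
    x ∈ IntermediateField.adjoin F (Set.range φ) ↔ x ∈ Submodule.span F (Set.range (φ ∘ b)) := by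
  have hmem : ∀ m, φ m ∈ Submodule.span F (Set.range (φ ∘ b)) := fun m => by
    rw [← b.sum_repr m, map_sum]
    refine Submodule.sum_mem _ fun i _ => ?_
    rw [map_smul, ← algebraMap_smul F (b.repr m i)]
    exact Submodule.smul_mem _ _ (Submodule.subset_span ⟨i, rfl⟩)
  have hsub : (Algebra.adjoin F (Set.range φ)).toSubmodule ≤ Submodule.span F (Set.range (φ ∘ b)) := by
    rw [Algebra.adjoin_eq_span, Submodule.span_le]
    intro y hy
    have : y ∈ Set.range φ := by
      induction hy using Submonoid.closure_induction with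
      | mem y hy => exact hy
      | one => exact ⟨1, map_one φ⟩
      | mul y z _ _ hy hz =>
        obtain ⟨m, rfl⟩ := hy
        obtain ⟨m', rfl⟩ := hz
        exact ⟨m * m', map_mul φ m m'⟩
    obtain ⟨m, rfl⟩ := this
    exact hmem m
  have halg : (IntermediateField.adjoin F (Set.range φ)).toSubalgebra = Algebra.adjoin F (Set.range φ) :=
    IntermediateField.adjoin_toSubalgebra_of_isAlgebraic (fun y _ => Algebra.IsAlgebraic.isAlgebraic y)
  constructor
  · intro hx
    refine hsub ?_
    show x ∈ Algebra.adjoin F (Set.range φ)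
    rw [← halg]
    exact hx
  · intro hx
    refine (Submodule.span_le (p := (IntermediateField.adjoin F (Set.range φ)).toSubalgebra.toSubmodule)).2 ?_ hx
    rintro _ ⟨i, rfl⟩
    exact IntermediateField.subset_adjoin F _ ⟨b i, rfl⟩

/-- Points with values in fields killed by `q` are determined on the smaller algebra. -/
def RadicialOver (q : ℕ) (M M' : Type u) [CommRing M] [CommRing M'] [Algebra M M'] : Prop :=
  ∀ (Ω : Type u) [Field Ω], (q : Ω) = 0 → ∀ σ τ : M' →+* Ω,
    σ.comp (algebraMap M M') = τ.comp (algebraMap M M') → σ = τ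

/-- A radicial step. -/
theorem exists_step (hF : IsQuot R F) (q : ℕ) [Fact q.Prime] [CharP F q]
    {M ι : Type u} [CommRing M] [Algebra R M] [Fintype ι] (b : Module.Basis ι R M) (φ : M →ₐ[R] K)
    (hli : LinearIndependent F (φ ∘ b)) (x : K) (hx : x ∉ IntermediateField.adjoin F (Set.range φ))
    (hxq : x ^ q ∈ IntermediateField.adjoin F (Set.range φ)) :
    ∃ (M' : Type u) (_ : CommRing M') (_ : Algebra R M') (_ : Algebra M M') (_ : IsScalarTower R M M')
      (ι' : Type u) (_ : Fintype ι') (b' : Module.Basis ι' R M') (φ' : M' →ₐ[R] K),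
      (∀ m, φ' (algebraMap M M' m) = φ m) ∧ LinearIndependent F (φ' ∘ b') ∧ Fintype.card ι < Fintype.card ι' ∧
      Module.Free M M' ∧ Module.Finite M M' ∧ RadicialOver q M M' := by
  classical
  have hq : q.Prime := Fact.out
  let L := IntermediateField.adjoin F (Set.range φ)
  obtain ⟨f, hf⟩ := (Submodule.mem_span_range_iff_exists_fun F).1 ((adjoin_eq_span F b φ _).1 hxq)
  obtain ⟨c, hc, hcf⟩ := hF.common (Finset.univ.image f)
  choose r hr using fun i => hcf (f i) (Finset.mem_image_of_mem f (Finset.mem_univ i))
  let y : K := algebraMap R K c * x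
  let m : M := c ^ (q - 1) • ∑ i, r i • b i
  have hy : y ^ q = φ m := by
    have h1 : q - 1 + 1 = q := Nat.sub_add_cancel hq.one_le
    have h2 : φ (∑ i, r i • b i) = algebraMap R K c * x ^ q := by
      rw [map_sum, ← hf, Finset.mul_sum]
      refine Finset.sum_congr rfl fun i _ => ?_
      rw [map_smul, Algebra.smul_def, Algebra.smul_def, IsScalarTower.algebraMap_apply R F K, hr, map_mul,
        ← IsScalarTower.algebraMap_apply]
      simp only [Function.comp_apply]
      ring
    rw [map_smul, h2, Algebra.smul_def, map_pow, mul_pow, ← mul_assoc, ← pow_succ, h1]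
  have hck : algebraMap R K c ≠ 0 := by
    rw [IsScalarTower.algebraMap_apply R F K]
    exact (_root_.map_ne_zero _).2 hc
  have hcL : algebraMap R K c ∈ L := by
    rw [IsScalarTower.algebraMap_apply R F K]
    exact L.algebraMap_mem _
  have hyL : y ∉ L := fun h => hx (by
    have := L.mul_mem (L.inv_mem hcL) h
    rwa [inv_mul_cancel_left₀ hck] at this)
  have hφL : ∀ m, φ m ∈ L := fun m => IntermediateField.subset_adjoin F _ ⟨m, rfl⟩
  haveI : CharP K q := charP_of_injective_algebraMap (algebraMap F K).injective q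
  haveI : CharP L q := charP_of_injective_algebraMap (algebraMap F L).injective q
  let a : L := ⟨φ m, hφL m⟩
  have hirr : Irreducible (X ^ q - C a : L[X]) := X_pow_sub_C_irreducible_of_prime hq fun z hz => by
    have h1 : (z : K) ^ q = y ^ q := by rw [hy]; exact congrArg Subtype.val hz
    exact hyL (frobenius_inj K q h1 ▸ z.2)
  have hmin : minpoly L y = X ^ q - C a := (minpoly.eq_of_irreducible_of_monic hirr
    (by simp [hy, a]) (monic_X_pow_sub_C a hq.ne_zero)).symm
  have hdeg : (minpoly L y).natDegree = q := by rw [hmin, natDegree_X_pow_sub_C]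
  let g : M[X] := X ^ q - C m
  have hg : g.Monic := monic_X_pow_sub_C m hq.ne_zero
  have hroot : g.eval₂ φ.toRingHom y = 0 := by simp [g, hy]
  let φ' : AdjoinRoot g →ₐ[R] K :=
    { AdjoinRoot.lift φ.toRingHom y hroot with
      commutes' := fun s => by
        show AdjoinRoot.lift φ.toRingHom y hroot (algebraMap R (AdjoinRoot g) s) = _
        rw [IsScalarTower.algebraMap_apply R M (AdjoinRoot g)]
        show AdjoinRoot.lift φ.toRingHom y hroot (AdjoinRoot.of g (algebraMap R M s)) = _
        rw [AdjoinRoot.lift_of]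
        exact φ.commutes s }
  have hbase : ∀ z, φ' (algebraMap M (AdjoinRoot g) z) = φ z := fun z => AdjoinRoot.lift_of hroot
  let B := (AdjoinRoot.powerBasis' hg).basis
  haveI : Module.Free M (AdjoinRoot g) := Module.Free.of_basis B
  haveI : Module.Finite M (AdjoinRoot g) := Module.Finite.of_basis B
  rcases subsingleton_or_nontrivial M with hM | hM
  · exact absurd (by rw [← map_one φ, Subsingleton.elim (1 : M) 0, map_zero]) (one_ne_zero (α := K))
  have hgdeg : g.natDegree = q := natDegree_X_pow_sub_C
  let eι : Fin (AdjoinRoot.powerBasis' hg).dim ≃ ULift.{u} (Fin (minpoly L y).natDegree) :=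
    (finCongr (by rw [AdjoinRoot.powerBasis'_dim, hgdeg, hdeg])).trans Equiv.ulift.symm
  let b' := b.smulTower (B.reindex eι)
  refine ⟨AdjoinRoot g, inferInstance, inferInstance, inferInstance, inferInstance, _, inferInstance, b', φ', hbase,
    ?_, ?_, inferInstance, inferInstance, ?_⟩
  · have h1 : LinearIndependent L (fun j : ULift.{u} (Fin (minpoly L y).natDegree) => y ^ (j.down : ℕ)) :=
      (linearIndependent_pow y).comp _ Equiv.ulift.injective
    have h2 : LinearIndependent F (fun i => (⟨φ (b i), hφL _⟩ : L)) :=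
      LinearIndependent.of_comp L.val.toLinearMap hli
    have h3 := linearIndependent_smul h2 h1
    convert h3 using 1
    funext p
    simp only [Function.comp_apply, b', Module.Basis.smulTower_apply, Module.Basis.reindex_apply, B,
      PowerBasis.coe_basis, AdjoinRoot.powerBasis'_gen, Algebra.smul_def, map_mul, map_pow, hbase]
    congr 1
    congr 1
    exact AdjoinRoot.lift_root hroot
  · rw [Fintype.card_prod, Fintype.card_ulift, Fintype.card_fin, hdeg]
    refine lt_mul_of_one_lt_right (Fintype.card_pos_iff.2 ?_) hq.one_lt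
    by_contra h
    rw [not_nonempty_iff] at h
    haveI := b.repr.toEquiv.subsingleton
    exact not_subsingleton M this
  · intro Ω _ hΩ σ τ h
    haveI : CharP Ω q := by
      obtain ⟨p, hp⟩ := CharP.exists Ω
      haveI := hp
      rcases hq.eq_one_or_self_of_dvd p ((CharP.cast_eq_zero_iff Ω p q).1 hΩ) with rfl | rfl
      · exact absurd rfl (CharP.char_ne_one Ω 1)
      · exact hp
    have hr : σ (AdjoinRoot.root g) = τ (AdjoinRoot.root g) := by
      apply frobenius_inj Ω q
      rw [frobenius_def, frobenius_def]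
      have he : AdjoinRoot.root g ^ q = algebraMap M (AdjoinRoot g) m := by
        have := AdjoinRoot.eval₂_root g
        simpa [g, eval₂_sub, sub_eq_zero] using this
      rw [← map_pow, ← map_pow, he]
      exact RingHom.congr_fun h m
    refine RingHom.ext fun z => ?_
    obtain ⟨p, rfl⟩ := AdjoinRoot.mk_surjective z
    induction p using Polynomial.induction_on' with
    | add p p' hp hp' => simp only [map_add, hp, hp']
    | monomial n s =>
      rw [← C_mul_X_pow_eq_monomial]
      simp only [map_mul, map_pow, AdjoinRoot.mk_C, AdjoinRoot.mk_X, hr]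
      congr 1
      exact RingHom.congr_fun h s

/-- The radicial tower up to `K`. -/
theorem exists_tower (hF : IsQuot R F) (q : ℕ) [ExpChar F q]
    {M ι : Type u} [CommRing M] [Algebra R M] [Fintype ι] (b : Module.Basis ι R M) (φ : M →ₐ[R] K)
    (hli : LinearIndependent F (φ ∘ b)) (hsep : separableClosure F K ≤ IntermediateField.adjoin F (Set.range φ)) :
    ∃ (M' : Type u) (_ : CommRing M') (_ : Algebra R M') (_ : Algebra M M') (_ : IsScalarTower R M M')
      (ι' : Type u) (_ : Fintype ι') (b' : Module.Basis ι' R M') (φ' : M' →ₐ[R] K),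
      LinearIndependent F (φ' ∘ b') ∧ IntermediateField.adjoin F (Set.range φ') = ⊤ ∧
      Module.Free M M' ∧ Module.Finite M M' ∧ RadicialOver (ringChar F) M M' := by
  classical
  induction hn : Module.finrank F K - Fintype.card ι using Nat.strong_induction_on generalizing M ι with
  | _ n IH =>
  by_cases htop : IntermediateField.adjoin F (Set.range φ) = ⊤
  · exact ⟨M, inferInstance, inferInstance, Algebra.id M, IsScalarTower.right, ι, inferInstance, b, φ, hli, htop,
      inferInstance, inferInstance, fun Ω _ _ σ τ h => by simpa using h⟩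
  obtain ⟨x, hx⟩ : ∃ x : K, x ∉ IntermediateField.adjoin F (Set.range φ) := by
    by_contra! h
    exact htop (eq_top_iff.2 fun z _ => h z)
  obtain ⟨e, r, hr⟩ := IsPurelyInseparable.pow_mem (separableClosure F K) q x
  have hm : ∃ e, x ^ q ^ e ∈ IntermediateField.adjoin F (Set.range φ) := by
    haveI : ExpChar (separableClosure F K) q :=
      expChar_of_injective_ringHom (algebraMap F (separableClosure F K)).injective q
    exact ⟨e, hsep (hr ▸ r.2)⟩
  have he0 : Nat.find hm ≠ 0 := fun h => hx (by
    have := Nat.find_spec hm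
    rw [h, pow_zero, pow_one] at this
    exact this)
  rcases ‹ExpChar F q› with _ | hq
  · exact absurd (by simpa using Nat.find_spec hm) hx
  haveI := Fact.mk hq
  obtain ⟨k, hk⟩ : ∃ k, Nat.find hm = k + 1 := Nat.exists_eq_succ_of_ne_zero he0
  obtain ⟨M₁, i1, i2, i3, i4, ι₁, i5, b₁, φ₁, hb₁, hli₁, hcard, hfree, hfin, hrad⟩ :=
    exists_step hF q b φ hli (x ^ q ^ k) (Nat.find_min hm (by omega)) (by
      rw [← pow_mul, ← pow_succ, ← hk]; exact Nat.find_spec hm)
  have hle : Fintype.card ι₁ ≤ Module.finrank F K := hli₁.fintype_card_le_finrank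
  have hsep₁ : separableClosure F K ≤ IntermediateField.adjoin F (Set.range φ₁) :=
    hsep.trans (IntermediateField.adjoin.mono F _ _ (by rintro _ ⟨m, rfl⟩; exact ⟨_, hb₁ m⟩))
  obtain ⟨M', j1, j2, j3, j4, ι', j5, b', φ', hli', htop', hfree', hfin', hrad'⟩ :=
    IH (Module.finrank F K - Fintype.card ι₁) (by omega) b₁ φ₁ hli₁ hsep₁ rfl
  letI : Algebra M M' := ((algebraMap M₁ M').comp (algebraMap M M₁)).toAlgebra
  haveI : IsScalarTower M M₁ M' := IsScalarTower.of_algebraMap_eq fun _ => rfl
  haveI : IsScalarTower R M M' := IsScalarTower.of_algebraMap_eq fun s => by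
    rw [IsScalarTower.algebraMap_apply R M₁ M', IsScalarTower.algebraMap_apply R M M₁]; rfl
  refine ⟨M', j1, j2, inferInstance, inferInstance, ι', j5, b', φ', hli', htop', Module.Free.trans (S := M₁),
    Module.Finite.trans M₁ M', fun Ω _ hΩ σ τ h => hrad' Ω hΩ σ τ (hrad Ω ?_ _ _ h)⟩
  rwa [ringChar.eq F q] at hΩ

end GrothLib.Partition6
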